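import Groth.Agent.GeomUnib.StalkLength
import Groth.Agent.QCohLib.Coherent
import Groth.Agent.QCohLib.Cover
import Groth.Agent.S12916
import Groth.Prelude.Def_Cyc

/-! Stalks of coherent modules: finiteness, exactness, additivity of lengths. -/

universe u

open CategoryTheory AlgebraicGeometry TopologicalSpace IsLocalRing

namespace Groth.Agent.CohStalkLen

open Groth.Agent.QCohLib (stalkHom stalkHom_smul germ_smul exists_smul_eq_germ stalk_exact_of_shortExact)

variable {X : Scheme.{u}}

theorem finite_stalk (M : X.Modules) (hM : Coh.IsCoh M) (x : X) :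
    Module.Finite (X.presheaf.stalk x) (M.presheaf.stalk x) := by
  have := hM.1
  obtain ⟨U, hU, hxU, -⟩ := exists_isAffineOpen_mem_and_subset (U := ⊤) (Opens.mem_top x)
  obtain ⟨G, hG⟩ := ((QCohLib.isCoh_iff.mp hM).2 ⟨U, hU⟩).fg_top
  classical
  refine ⟨⟨G.image fun s => (M.presheaf.germ U x hxU s : M.presheaf.stalk x), eq_top_iff.2 fun m _ => ?_⟩⟩
  obtain ⟨f, s, hf, hfs⟩ := exists_smul_eq_germ hU x hxU m
  obtain ⟨v, hv⟩ := (X.mem_basicOpen f x hxU).1 hf
  have key : ∀ t : Γ(M, U), (M.presheaf.germ U x hxU t : M.presheaf.stalk x) ∈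
      Submodule.span (X.presheaf.stalk x) (↑(G.image fun s => (M.presheaf.germ U x hxU s : M.presheaf.stalk x)) : Set (M.presheaf.stalk x)) := by
    intro t
    have ht : t ∈ Submodule.span Γ(X, U) (G : Set Γ(M, U)) := hG.ge Submodule.mem_top
    induction ht using Submodule.span_induction with
    | mem t ht => exact Submodule.subset_span (Finset.mem_image_of_mem _ ht)
    | zero => rw [map_zero]; exact zero_mem _
    | add a b _ _ ha hb => rw [map_add]; exact add_mem ha hb
    | smul r a _ ha => rw [germ_smul]; exact Submodule.smul_mem _ _ ha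
  have : m = (↑v⁻¹ : X.presheaf.stalk x) • (M.presheaf.germ U x hxU s : M.presheaf.stalk x) := by
    rw [← hfs, ← hv, smul_smul, Units.inv_mul, one_smul]
  rw [this]
  exact Submodule.smul_mem _ _ (key s)

/-- The stalk of `φ` as a linear map. -/
noncomputable def stalkLin {M N : X.Modules} (φ : M ⟶ N) (x : X) :
    M.presheaf.stalk x →ₗ[X.presheaf.stalk x] N.presheaf.stalk x where
  toFun := stalkHom φ x
  map_add' := map_add _
  map_smul' := fun r m => stalkHom_smul φ x r m

theorem length_add {T : ShortComplex X.Modules} (hT : T.ShortExact) (x : X) :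
    Module.length (X.presheaf.stalk x) (T.X₂.presheaf.stalk x) =
      Module.length (X.presheaf.stalk x) (T.X₁.presheaf.stalk x) + Module.length (X.presheaf.stalk x) (T.X₃.presheaf.stalk x) :=
  Module.length_eq_add_of_exact (stalkLin T.f x) (stalkLin T.g x)
    ((QCohLib.mono_iff_stalk_injective T.f).mp hT.mono_f x) ((QCohLib.epi_iff_stalk_surjective T.g).mp hT.epi_g x)
    fun m => stalk_exact_of_shortExact hT x m

theorem isFiniteLength_stalk [IsLocallyNoetherian X] {δ : X → ℤ} (hδ : Cyc.IsDimFun X δ) (M : X.Modules) (hM : Coh.IsCoh M)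
    (x : X) {k : ℤ} (hx : δ x = k) (hdim : ∀ y : X, Nontrivial (M.presheaf.stalk y) → δ y ≤ k) :
    IsFiniteLength (X.presheaf.stalk x) (M.presheaf.stalk x) := by
  have := hM.1
  have := finite_stalk M hM x
  refine S12916.isFiniteLength_of_support _ fun q hq => ?_
  have hy := GeomUnib.fromSpecStalk_specializes q
  have hnt : Nontrivial (M.presheaf.stalk (X.fromSpecStalk x q)) :=
    (GeomUnib.lenAt_genPrime M hy).2.1 (by rw [GeomUnib.genPrime_fromSpecStalk]; exact hq)
  have e : X.fromSpecStalk x q = x := by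
    by_contra hne
    have := (hδ _ _ hy hne).1
    have := hdim _ hnt
    omega
  have : q = closedPoint (X.presheaf.stalk x) := (X.fromSpecStalk x).isEmbedding.injective
    (e.trans Scheme.fromSpecStalk_closedPoint.symm)
  rw [this]
  exact IsLocalRing.maximalIdeal.isMaximal _

end Groth.Agent.CohStalkLen
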